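import Groth.Agent.Lib.Cube.Pic
import Groth.Agent.Lib.Poincare.FrobPull
import Groth.Agent.Lib.BaseChange.Irred
import Mathlib.RingTheory.Flat.FaithfullyFlat.Basic
import Mathlib.FieldTheory.PurelyInseparable.Basic
import Mathlib.AlgebraicGeometry.Morphisms.Flat

/-!
# Invertible modules and purely inseparable extensions of the ground field
-/

set_option autoImplicit false
set_option linter.all false
set_option backward.isDefEq.respectTransparency false
set_option maxHeartbeats 1000000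

universe u

open CategoryTheory CategoryTheory.Limits AlgebraicGeometry TopologicalSpace Opposite TensorProduct
open GrothLib.Ample

noncomputable section

namespace GrothLib.InsepPic2

variable {X Y : Scheme.{u}}

theorem res_injective_cover {ι : Type*} {W : X.Opens} (U : ι → X.Opens) (hU : W ≤ ⨆ i, U i) {a b : Γ(X, W)}
    (hle : ∀ i, U i ≤ W) (h : ∀ i, res (hle i) a = res (hle i) b) : a = b := by
  refine X.IsSheaf.section_ext fun x hx => ?_
  obtain ⟨i, hi⟩ := Opens.mem_iSup.1 (hU hx)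
  exact ⟨U i, hle i, hi, h i⟩

/-- Pullback of sections along a flat surjective morphism is injective. -/
theorem appLE_injective (g : Y ⟶ X) [Flat g] [Surjective g] (U : X.Opens) :
    Function.Injective (g.appLE U (g ⁻¹ᵁ U) le_rfl) := by
  rw [← Scheme.Hom.app_eq_appLE]
  intro a b hab
  apply TopCat.Presheaf.section_ext X.sheaf
  intro x hx
  obtain ⟨y, rfl⟩ := g.surjective x
  letI : Algebra (X.presheaf.stalk (g y)) (Y.presheaf.stalk y) := (g.stalkMap y).hom.toAlgebra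
  haveI : Module.Flat (X.presheaf.stalk (g y)) (Y.presheaf.stalk y) := Flat.stalkMap g y
  haveI : IsLocalHom (algebraMap (X.presheaf.stalk (g y)) (Y.presheaf.stalk y)) :=
    inferInstanceAs (IsLocalHom (g.stalkMap y).hom)
  haveI := Module.FaithfullyFlat.of_flat_of_isLocalHom (A := X.presheaf.stalk (g y)) (B := Y.presheaf.stalk y)
  apply FaithfulSMul.algebraMap_injective (X.presheaf.stalk (g y)) (Y.presheaf.stalk y)
  show g.stalkMap y (X.presheaf.germ U (g y) hx a) = g.stalkMap y (X.presheaf.germ U (g y) hx b)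
  rw [Scheme.Hom.germ_stalkMap_apply, Scheme.Hom.germ_stalkMap_apply, hab]

/-- A refinement of a cocycle. -/
def refine' (c : Cocycle X) {κ : Type u} (E : κ → X.Opens) (φ : κ → c.ι) (h : ∀ t, E t ≤ c.D (φ t))
    (hE : ⨆ t, E t = ⊤) : Cocycle X where
  ι := κ
  D := E
  g s t := c.G (φ s) (φ t) (inf_le_left.trans (h s)) (inf_le_right.trans (h t))
  cover := hE
  self i W hW := by rw [Cocycle.res_G]; exact c.G_self _ _ _
  change i j k W hi hj hk := by
    rw [Cocycle.res_G, Cocycle.res_G, Cocycle.res_G]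
    exact c.G_trans _ _ _ _ _ _

theorem cls_refine' (c : Cocycle X) {κ : Type u} (E : κ → X.Opens) (φ : κ → c.ι) (h : ∀ t, E t ≤ c.D (φ t))
    (hE : ⨆ t, E t = ⊤) : Cube.cls (refine' c E φ h hE) = Cube.cls c := by
  refine Quotient.sound (Cube.eqv_of_map (c := refine' c E φ h hE) (c' := c) φ h (fun _ => 1) (fun _ => isUnit_one)
    fun p q O hp hq => ?_)
  rw [map_one, map_one, one_mul, mul_one]
  exact (c.res_G (φ p) (φ q) (inf_le_left.trans (h p)) (inf_le_right.trans (h q)) (le_inf hp hq)).symm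

variable (k k' : Type u) [Field k] [Field k'] [Algebra k k'] (f : X ⟶ Spec (CommRingCat.of k))

local notation "X'" => pullback f (Spec.map (CommRingCat.ofHom (algebraMap k k')))
local notation "π" => pullback.fst f (Spec.map (CommRingCat.ofHom (algebraMap k k')))

theorem flat_surj : Flat π ∧ Surjective π :=
  ⟨MorphismProperty.pullback_fst _ _ inferInstance, MorphismProperty.pullback_fst _ _ inferInstance⟩

variable {p : ℕ} [Fact p.Prime] [CharP k p] [IsPurelyInseparable k k']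

/-- `a` has a `p`-power which comes from `X`. -/
def HasRoot (p : ℕ) (W : X.Opens) (a : Γ(X', π ⁻¹ᵁ W)) : Prop :=
  ∃ (e : ℕ) (b : Γ(X, W)), a ^ p ^ e = (π).appLE W (π ⁻¹ᵁ W) le_rfl b

variable {k k' f}

omit [Fact p.Prime] [CharP k p] [IsPurelyInseparable k k'] in
theorem mono_root {W : X.Opens} {a : Γ(X', π ⁻¹ᵁ W)} {e e' : ℕ} (h : e ≤ e') {b : Γ(X, W)}
    (hb : a ^ p ^ e = (π).appLE W (π ⁻¹ᵁ W) le_rfl b) :
    a ^ p ^ e' = (π).appLE W (π ⁻¹ᵁ W) le_rfl (b ^ p ^ (e' - e)) := by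
  rw [map_pow, ← hb, ← pow_mul, ← pow_add, Nat.add_sub_cancel' h]

theorem hasRoot_affine {W : X.Opens} (hW : IsAffineOpen W) (a : Γ(X', π ⁻¹ᵁ W)) : HasRoot k k' f p W a := by
  let σ : Spec (CommRingCat.of k') ⟶ Spec (CommRingCat.of k) := Spec.map (CommRingCat.ofHom (algebraMap k k'))
  have H : IsPullback (pullback.snd f σ) π σ f := (IsPullback.of_hasPullback f σ).flip
  have hU : π ⁻¹ᵁ W = (pullback.snd f σ) ⁻¹ᵁ (σ ⁻¹ᵁ ⊤) ⊓ π ⁻¹ᵁ W := by simp
  haveI := isIso_pushoutSection_of_isAffineOpen H (show W ≤ f ⁻¹ᵁ ⊤ from le_top) (le_refl (σ ⁻¹ᵁ ⊤)) hU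
    (isAffineOpen_top _) hW (isAffineOpen_top _)
  have hpo := (isIso_pushoutSection_iff H (show W ≤ f ⁻¹ᵁ ⊤ from le_top) (le_refl (σ ⁻¹ᵁ ⊤)) hU).1 inferInstance
  letI := (σ.appLE ⊤ (σ ⁻¹ᵁ ⊤) le_rfl).hom.toAlgebra
  letI : Algebra Γ(Spec (CommRingCat.of k), ⊤) Γ(X, W) := (f.appLE ⊤ W le_top).hom.toAlgebra
  letI : Algebra Γ(X, W) Γ(X', π ⁻¹ᵁ W) := ((π).appLE W (π ⁻¹ᵁ W) le_rfl).hom.toAlgebra
  letI : Algebra Γ(Spec (CommRingCat.of k'), σ ⁻¹ᵁ ⊤) Γ(X', π ⁻¹ᵁ W) :=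
    ((pullback.snd f σ).appLE (σ ⁻¹ᵁ ⊤) (π ⁻¹ᵁ W) (hU.le.trans inf_le_left)).hom.toAlgebra
  letI : Algebra Γ(Spec (CommRingCat.of k), ⊤) Γ(X', π ⁻¹ᵁ W) :=
    ((f.appLE ⊤ W le_top) ≫ (π).appLE W (π ⁻¹ᵁ W) le_rfl).hom.toAlgebra
  haveI : IsScalarTower Γ(Spec (CommRingCat.of k), ⊤) Γ(X, W) Γ(X', π ⁻¹ᵁ W) := IsScalarTower.of_algebraMap_eq' rfl
  have hpo' : IsPushout (CommRingCat.ofHom (algebraMap Γ(Spec (CommRingCat.of k), ⊤) Γ(X, W)))
      (CommRingCat.ofHom (algebraMap Γ(Spec (CommRingCat.of k), ⊤) Γ(Spec (CommRingCat.of k'), σ ⁻¹ᵁ ⊤)))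
      (CommRingCat.ofHom (algebraMap Γ(X, W) Γ(X', π ⁻¹ᵁ W)))
      (CommRingCat.ofHom (algebraMap Γ(Spec (CommRingCat.of k'), σ ⁻¹ᵁ ⊤) Γ(X', π ⁻¹ᵁ W))) := by
    simp only [RingHom.algebraMap_toAlgebra, CommRingCat.ofHom_hom]
    first | exact hpo | exact hpo.flip
  haveI : IsScalarTower Γ(Spec (CommRingCat.of k), ⊤) Γ(Spec (CommRingCat.of k'), σ ⁻¹ᵁ ⊤) Γ(X', π ⁻¹ᵁ W) :=
    IsScalarTower.of_algebraMap_eq' (congrArg CommRingCat.Hom.hom hpo'.w)
  haveI hP := CommRingCat.isPushout_iff_isPushout.mp hpo'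
  haveI : CharP Γ(Spec (CommRingCat.of k), ⊤) p := by
    exact charP_of_injective_ringHom (f := (Scheme.ΓSpecIso (CommRingCat.of k)).inv.hom)
      (ConcreteCategory.bijective_of_isIso (Scheme.ΓSpecIso (CommRingCat.of k)).inv).1 p
  have hp0 : (p : Γ(X', π ⁻¹ᵁ W)) = 0 := by
    rw [← map_natCast (algebraMap Γ(Spec (CommRingCat.of k), ⊤) Γ(X', π ⁻¹ᵁ W)), CharP.cast_eq_zero, map_zero]
  refine hP.out.inductionOn a _ ?_ ?_ ?_ ?_
  · exact ⟨0, 0, by simp⟩
  · intro z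
    let x : k' := (Scheme.ΓSpecIso (CommRingCat.of k')).hom z
    obtain ⟨e, y, hy⟩ := IsPurelyInseparable.pow_mem k p x
    refine ⟨e, algebraMap Γ(Spec (CommRingCat.of k), ⊤) Γ(X, W) ((Scheme.ΓSpecIso (CommRingCat.of k)).inv y), ?_⟩
    have hz : z ^ p ^ e = algebraMap Γ(Spec (CommRingCat.of k), ⊤) Γ(Spec (CommRingCat.of k'), σ ⁻¹ᵁ ⊤)
        ((Scheme.ΓSpecIso (CommRingCat.of k)).inv y) := by
      apply (ConcreteCategory.bijective_of_isIso (Scheme.ΓSpecIso (CommRingCat.of k')).hom).1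
      rw [map_pow]
      refine hy.symm.trans ?_
      exact (congrArg (fun h => h.hom y) (Scheme.ΓSpecIso_inv_naturality (CommRingCat.ofHom (algebraMap k k')))).symm ▸
        (congrArg (fun h => h.hom ((algebraMap k k') y)) (Scheme.ΓSpecIso (CommRingCat.of k')).inv_hom_id).symm
    show (IsScalarTower.toAlgHom Γ(Spec (CommRingCat.of k), ⊤) Γ(Spec (CommRingCat.of k'), σ ⁻¹ᵁ ⊤) Γ(X', π ⁻¹ᵁ W) z) ^ p ^ e = _
    rw [← map_pow, hz, AlgHom.commutes]
    exact (IsScalarTower.algebraMap_apply Γ(Spec (CommRingCat.of k), ⊤) Γ(X, W) Γ(X', π ⁻¹ᵁ W) _)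
  · rintro r z ⟨e, b, hb⟩
    refine ⟨e, r ^ p ^ e * b, ?_⟩
    rw [Algebra.smul_def, mul_pow, hb, map_mul, map_pow]
    rfl
  · rintro z w ⟨e, b, hb⟩ ⟨e', b', hb'⟩
    rcases subsingleton_or_nontrivial Γ(X', π ⁻¹ᵁ W) with h | h
    · exact ⟨0, 0, Subsingleton.elim _ _⟩
    haveI : CharP Γ(X', π ⁻¹ᵁ W) p := (CharP.charP_iff_prime_eq_zero (Fact.out : p.Prime)).2 hp0
    refine ⟨max e e', b ^ p ^ (max e e' - e) + b' ^ p ^ (max e e' - e'), ?_⟩
    rw [add_pow_char_pow, mono_root (le_max_left e e') hb, mono_root (le_max_right e e') hb', map_add]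

theorem hasRoot_qc {W : X.Opens} (hW : IsCompact (W : Set X)) (a : Γ(X', π ⁻¹ᵁ W)) : HasRoot k k' f p W a := by
  classical
  obtain ⟨s, hs, heq⟩ := (isCompact_and_isOpen_iff_finite_and_eq_biUnion_affineOpens (U := (W : Set X))).1 ⟨hW, W.2⟩
  haveI : Finite s := hs
  have hle : ∀ U : s, U.1.1 ≤ W := fun U x hx => by
    show x ∈ (W : Set X)
    rw [heq]; exact Set.mem_iUnion₂.2 ⟨U.1, U.2, hx⟩
  have h := fun U : s => hasRoot_affine (p := p) (f := f) (k' := k') U.1.2 (res ((π).preimage_mono (hle U)) a)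
  choose e b hb using h
  obtain ⟨E, hE⟩ := (Set.finite_range e).bddAbove
  have hE' : ∀ U : s, e U ≤ E := fun U => hE ⟨U, rfl⟩
  let c : ∀ U : s, Γ(X, U.1.1) := fun U => b U ^ p ^ (E - e U)
  have hc : ∀ U : s, (π).appLE U.1.1 (π ⁻¹ᵁ U.1.1) le_rfl (c U) = res ((π).preimage_mono (hle U)) (a ^ p ^ E) := by
    intro U
    rw [← mono_root (hE' U) (hb U), map_pow]
  obtain ⟨hflat, hsurj⟩ := flat_surj k k' f
  have hcompat : TopCat.Presheaf.IsCompatible X.presheaf (fun U : s => U.1.1) c := by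
    intro U V
    apply appLE_injective (π) (U.1.1 ⊓ V.1.1)
    show ((π).appLE _ _ _).hom (res inf_le_left (c U)) = ((π).appLE _ _ _).hom (res inf_le_right (c V))
    rw [appLE_res, appLE_res,
      ← res_appLE (π) ((π).preimage_mono (inf_le_left : U.1.1 ⊓ V.1.1 ≤ U.1.1)) le_rfl (c U),
      ← res_appLE (π) ((π).preimage_mono (inf_le_right : U.1.1 ⊓ V.1.1 ≤ V.1.1)) le_rfl (c V)]
    erw [hc, hc]
    rw [res_res, res_res]
  obtain ⟨t, ht, -⟩ := X.sheaf.existsUnique_gluing' (fun U : s => U.1.1) W (fun U => homOfLE (hle U)) (by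
    intro x hx
    have : x ∈ (W : Set X) := hx
    rw [heq] at this
    obtain ⟨U, hU, hxU⟩ := Set.mem_iUnion₂.1 this
    exact Opens.mem_iSup.2 ⟨⟨U, hU⟩, hxU⟩) c hcompat
  refine ⟨E, t, res_injective_cover (fun U : s => π ⁻¹ᵁ U.1.1) ?_ (fun U => (π).preimage_mono (hle U)) fun U => ?_⟩
  · intro z hz
    have : π z ∈ (W : Set X) := hz
    rw [heq] at this
    obtain ⟨U, hU, hxU⟩ := Set.mem_iUnion₂.1 this
    exact Opens.mem_iSup.2 ⟨⟨U, hU⟩, hxU⟩
  · rw [← hc, res_appLE, ← ht U]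
    exact appLE_res (π) (hle U) le_rfl t

/-- One exponent for finitely many functions. -/
theorem uniform_root {κ : Type u} [Finite κ] (W : κ → X.Opens) (hW : ∀ t, IsCompact (W t : Set X))
    (a : ∀ t, Γ(X', π ⁻¹ᵁ W t)) :
    ∃ (e : ℕ) (b : ∀ t, Γ(X, W t)), ∀ t, a t ^ p ^ e = (π).appLE (W t) (π ⁻¹ᵁ W t) le_rfl (b t) := by
  choose e b hb using fun t => hasRoot_qc (p := p) (hW t) (a t)
  obtain ⟨E, hE⟩ := (Set.finite_range e).bddAbove
  exact ⟨E, fun t => b t ^ p ^ (E - e t), fun t => mono_root (hE ⟨t, rfl⟩) (hb t)⟩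

variable [CompactSpace X] [QuasiSeparatedSpace X]

theorem exists_finite_affine_cover (V : X → X.Opens) (hV : ∀ x, x ∈ V x) :
    ∃ (κ : Type u) (_ : Finite κ) (E : κ → X.Opens) (φ : κ → X),
      (∀ t, IsAffineOpen (E t) ∧ E t ≤ V (φ t)) ∧ ⨆ t, E t = ⊤ := by
  choose E hE hxE hEV using fun x => exists_isAffineOpen_mem_and_subset (hV x)
  obtain ⟨s, hs⟩ := isCompact_univ.elim_finite_subcover (fun x => (E x : Set X)) (fun x => (E x).2)
    (fun x _ => Set.mem_iUnion.2 ⟨x, hxE x⟩)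
  refine ⟨s, inferInstance, fun t => E t.1, fun t => t.1, fun t => ⟨hE _, hEV _⟩, eq_top_iff.2 fun x _ => ?_⟩
  obtain ⟨i, hi, hxi⟩ := Set.mem_iUnion₂.1 (hs (Set.mem_univ x))
  exact Opens.mem_iSup.2 ⟨⟨i, hi⟩, hxi⟩

theorem exists_pow_mem_range (x : Cube.Pic X') : ∃ (e : ℕ) (y : Cube.Pic X), Cube.pull π y = x ^ p ^ e := by
  classical
  obtain ⟨c⟩ := x
  letI : X.Over (Spec (CommRingCat.of k)) := ⟨f⟩
  have hhom : IsHomeomorph π := GrothLib.BaseChange.isHomeomorph_bcFst k X k'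
  choose i hi using c.exists_mem
  let h := hhom.homeomorph
  obtain ⟨κ, hκ, E, φ, hE, hcov⟩ := exists_finite_affine_cover
    (fun x => ⟨π '' ((c.D (i (h.symm x))).carrier), hhom.isOpenMap _ (c.D _).2⟩)
    (fun x => ⟨h.symm x, hi _, h.apply_symm_apply x⟩)
  have hle : ∀ t, π ⁻¹ᵁ E t ≤ c.D (i (h.symm (φ t))) := by
    intro t z hz
    obtain ⟨z', hz', e⟩ := (hE t).2 hz
    rwa [hhom.injective e] at hz'
  have hcov' : ⨆ t, π ⁻¹ᵁ E t = ⊤ := by rw [← Scheme.Hom.preimage_iSup, hcov, Scheme.Hom.preimage_top]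
  let c' := refine' c (fun t => π ⁻¹ᵁ E t) (fun t => i (h.symm (φ t))) hle hcov'
  have hqc : ∀ t : κ × κ, IsCompact ((E t.1 ⊓ E t.2 : X.Opens) : Set X) := fun t =>
    QuasiSeparatedSpace.inter_isCompact _ _ (E t.1).2 (hE t.1).1.isCompact (E t.2).2 (hE t.2).1.isCompact
  obtain ⟨e, b, hb⟩ := uniform_root (p := p) (fun t : κ × κ => E t.1 ⊓ E t.2) hqc
    (fun t => c'.G t.1 t.2 ((π).preimage_mono inf_le_left) ((π).preimage_mono inf_le_right))
  obtain ⟨hflat, hsurj⟩ := flat_surj k k' f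
  have key : ∀ (s t : κ) (W : X.Opens) (hs : W ≤ E s) (ht : W ≤ E t),
      (π).appLE W (π ⁻¹ᵁ W) le_rfl (res (le_inf hs ht) (b (s, t))) =
        (Cube.powC c' (p ^ e)).G s t ((π).preimage_mono hs) ((π).preimage_mono ht) := by
    intro s t W hs ht
    rw [appLE_res, ← res_appLE (π) ((π).preimage_mono (le_inf hs ht)) le_rfl, ← hb (s, t), map_pow,
      Cocycle.res_G, Cube.powC_G]
  let ξ : Cocycle X :=
    { ι := κ
      D := E
      g := fun s t => b (s, t)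
      cover := hcov
      self := fun s W hs => by
        apply appLE_injective (π) W
        rw [key s s W hs hs, Cocycle.G_self, map_one]
      change := fun s t r W hs ht hr => by
        apply appLE_injective (π) W
        rw [map_mul, key s r W hs hr, key s t W hs ht, key t r W ht hr]
        exact Cocycle.G_trans _ _ _ _ _ _ _ }
  refine ⟨e, Cube.cls ξ, ?_⟩
  rw [Cube.pull_cls]
  show _ = Cube.cls c ^ p ^ e
  rw [← cls_refine' c (fun t => π ⁻¹ᵁ E t) (fun t => i (h.symm (φ t))) hle hcov', ← Cube.cls_powC]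
  refine Quotient.sound (Cube.eqv_of_map (c := ξ.comap π) (c' := Cube.powC c' (p ^ e)) id (fun _ => le_rfl)
    (fun _ => 1) (fun _ => isUnit_one) fun s t O hs ht => ?_)
  rw [map_one, map_one, one_mul, mul_one, Cocycle.comap_G]
  have k1 := key s t (E s ⊓ E t) inf_le_left inf_le_right
  rw [res_self] at k1
  show (Cube.powC c' (p ^ e)).G s t hs ht = ((π).appLE (E s ⊓ E t) O _).hom (b (s, t))
  rw [← res_appLE (π) (show O ≤ π ⁻¹ᵁ (E s ⊓ E t) from le_inf hs ht) le_rfl, k1, Cocycle.res_G]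

theorem exists_pow_eq_one_of_pull_eq_one (y : Cube.Pic X) (hy : Cube.pull π y = 1) :
    ∃ e : ℕ, y ^ p ^ e = 1 := by
  classical
  obtain ⟨c⟩ := y
  choose i hi using c.exists_mem
  obtain ⟨κ, hκ, E, φ, hE, hcov⟩ := exists_finite_affine_cover (fun x => c.D (i x)) hi
  let c' := refine' c E (fun t => i (φ t)) (fun t => (hE t).2) hcov
  have hc' : Cube.cls c' = Cube.cls c := cls_refine' c E (fun t => i (φ t)) (fun t => (hE t).2) hcov
  have htriv : Cube.Triv (c'.comap π) := by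
    rw [← Cube.cls_eq_one_iff, ← Cube.pull_cls, hc']
    exact hy
  obtain ⟨a, ha⟩ := htriv
  let u : ∀ t : κ, Γ(X', π ⁻¹ᵁ E t) := fun t => res (le_inf le_top le_rfl) (a.1 t)
  have hu : ∀ t, IsUnit (u t) := fun t => Cube.isUnit_component ha t (le_refl (π ⁻¹ᵁ E t))
  obtain ⟨e, b, hb⟩ := uniform_root (p := p) (fun t : ULift.{u} Bool × κ => E t.2)
    (fun t => (hE t.2).1.isCompact) (fun t => if t.1.down then u t.2 else ((hu t.2).unit⁻¹ : _))
  obtain ⟨hflat, hsurj⟩ := flat_surj k k' f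
  refine ⟨e, ?_⟩
  show Cube.cls c ^ p ^ e = 1
  rw [← hc', ← Cube.cls_powC]
  refine Eq.symm (Quotient.sound (Cube.Eqv.symm (Cube.eqv_of_map (c := Cube.powC c' (p ^ e))
    (c' := Cocycle.triv X) (fun _ => PUnit.unit) (fun _ => le_top) (fun t => b (⟨false⟩, t))
    (fun t => ?_) fun s t O hs ht => ?_)))
  · refine IsUnit.of_mul_eq_one (b (⟨true⟩, t)) ?_
    apply appLE_injective (π) (E t)
    erw [map_mul, map_one, ← hb (⟨false⟩, t), ← hb (⟨true⟩, t)]
    simp only [Bool.false_eq_true, ↓reduceIte, ← mul_pow, IsUnit.val_inv_mul, one_pow]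
  · rw [show (Cocycle.triv X).G (W := O) PUnit.unit PUnit.unit le_top le_top = 1 from (Cocycle.triv X).G_self _ _ _,
      mul_one]
    apply appLE_injective (π) O
    have hO := fun r (hr : O ≤ E r) => (π).preimage_mono hr
    have hrel := c'.comap π |>.sect_spec a s t (W := π ⁻¹ᵁ O) (le_inf le_top (hO s hs)) (le_inf le_top (hO t ht))
    rw [pow_one] at hrel
    have hB : ∀ (r : κ) (hr : O ≤ E r), (π).appLE O (π ⁻¹ᵁ O) le_rfl (res hr (b (⟨false⟩, r))) =
        res (hO r hr) (((hu r).unit⁻¹ : _) : Γ(X', π ⁻¹ᵁ E r)) ^ p ^ e := by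
      intro r hr
      rw [appLE_res, ← res_appLE (π) (hO r hr) le_rfl]
      erw [← hb (⟨false⟩, r)]
      simp only [Bool.false_eq_true, ↓reduceIte, map_pow]
    have hI : ∀ (r : κ) (hr : O ≤ E r), res (hO r hr) (u r) * res (hO r hr) (((hu r).unit⁻¹ : _) : Γ(X', π ⁻¹ᵁ E r)) = 1 := by
      intro r hr
      rw [← map_mul, IsUnit.mul_val_inv, map_one]
    have hU : ∀ (r : κ) (hr : O ≤ E r), res (le_inf le_top (hO r hr)) (a.1 r) = res (hO r hr) (u r) := by
      intro r hr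
      exact (res_res _ _ _).symm
    rw [map_mul]
    erw [hB t ht, hB s hs]
    erw [hU s hs, hU t ht] at hrel
    have hG : (π).appLE O (π ⁻¹ᵁ O) le_rfl ((Cube.powC c' (p ^ e)).G s t hs ht) =
        (c'.comap π).G s t (hO s hs) (hO t ht) ^ p ^ e := by
      rw [Cube.powC_G, map_pow]
      congr 1
      rw [c'.appLE_G]
    rw [hG, ← mul_pow]
    congr 1
    calc res (hO t ht) (((hu t).unit⁻¹ : _) : Γ(X', π ⁻¹ᵁ E t))
        = (res (hO s hs) (u s) * res (hO s hs) (((hu s).unit⁻¹ : _) : Γ(X', π ⁻¹ᵁ E s))) *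
            res (hO t ht) (((hu t).unit⁻¹ : _) : Γ(X', π ⁻¹ᵁ E t)) := by rw [hI s hs, one_mul]
      _ = _ := by
        rw [hrel]
        calc _ = ((c'.comap π).G s t (hO s hs) (hO t ht) *
              res (hO s hs) (((hu s).unit⁻¹ : _) : Γ(X', π ⁻¹ᵁ E s))) *
              (res (hO t ht) (u t) * res (hO t ht) (((hu t).unit⁻¹ : _) : Γ(X', π ⁻¹ᵁ E t))) := by ring
          _ = _ := by rw [hI t ht, mul_one]

end GrothLib.InsepPic2
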